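import Cfsg.Agent.MinIdxSp2.SpSix
import Cfsg.Agent.S2146
import Cfsg.Agent.Classical.SymplecticSimple
import Cfsg.Agent.Quad.POmega

/-!
The minimal index of a proper subgroup of the symplectic groups over two elements.
-/

set_option autoImplicit false
set_option linter.style.haveILetI false

namespace CfsgLib.MinIdxSp2

open Matrix CfsgLib.Symp

universe u

variable {F : Type u} [Field F] [Fintype F] {m : ℕ}

local notation "Sp" => Matrix.symplecticGroup (Fin m) F
local notation "V" => Fin m ⊕ Fin m → F

theorem two_eq_zero (h : Fintype.card F = 2) : (2 : F) = 0 := by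
  have e := Nat.cast_card_eq_zero F
  rwa [h] at e

theorem center_eq_bot (h : Fintype.card F = 2) (hm : 1 ≤ m) : Subgroup.center Sp = ⊥ := by
  haveI : Nonempty (Fin m) := ⟨⟨0, hm⟩⟩
  rw [← Subgroup.card_eq_one, card_center, Nat.card_eq_fintype_card, h]
  rfl

theorem form_eq_polar (h : Fintype.card F = 2) (u v : V) :
    form u v = Cfsg.quadFormPlus m F (u + v) - Cfsg.quadFormPlus m F u - Cfsg.quadFormPlus m F v := by
  have h2 := two_eq_zero h
  simp only [form_apply, Cfsg.quadFormPlus, Pi.add_apply, ← Finset.sum_sub_distrib]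
  refine Finset.sum_congr rfl fun i _ => ?_
  linear_combination (-(u (Sum.inl i) * v (Sum.inr i))) * h2

/-- The orthogonal group inside the symplectic group. -/
def orthIncl (h : Fintype.card F = 2) : Cfsg.isometryGroup F (Cfsg.quadFormPlus m F) →* Sp where
  toFun g := ⟨((g : Matrix.GeneralLinearGroup (Fin m ⊕ Fin m) F) : Matrix (Fin m ⊕ Fin m) (Fin m ⊕ Fin m) F), by
    have hQ : ∀ x : V, Cfsg.quadFormPlus m F
        (((g : Matrix.GeneralLinearGroup (Fin m ⊕ Fin m) F) : Matrix _ _ F) *ᵥ x) = Cfsg.quadFormPlus m F x :=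
      fun x => g.2 x 0
    rw [mem_iff_form]
    intro u v
    rw [form_eq_polar h, form_eq_polar h, ← Matrix.mulVec_add, hQ, hQ, hQ]⟩
  map_one' := rfl
  map_mul' _ _ := rfl

theorem orthIncl_injective (h : Fintype.card F = 2) : Function.Injective (orthIncl (m := m) h) := fun g g' e =>
  Subtype.ext (Units.ext (congrArg Subtype.val e :))

/-- A proper subgroup of `Sp₂ₘ(2)`, `m ≥ 4`, has index at least that of the smaller class of quadrics. -/
theorem bound_large (h : Fintype.card F = 2) (hm : 4 ≤ m) (H : Subgroup Sp) (hH : H ≠ ⊤) :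
    2 ^ (m - 1) * (2 ^ m - 1) ≤ H.index := by
  classical
  obtain ⟨hlb, K₀, hK₀⟩ := Cfsg.Agent.S2146.result h m hm
  set Om := Cfsg.Omega F (Cfsg.quadFormPlus m F)
  set j : Om →* Sp := (orthIncl h).comp Om.subtype with hj
  have hjinj : Function.Injective j := (orthIncl_injective h).comp Subtype.val_injective
  have hD : 2 ≤ 2 ^ (m - 1) * (2 ^ m - 1) := by
    have h1 : 2 ^ 1 ≤ 2 ^ (m - 1) := Nat.pow_le_pow_right (by norm_num) (by omega)
    have h2 : 2 ^ 1 ≤ 2 ^ m := Nat.pow_le_pow_right (by norm_num) (by omega)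
    nlinarith [show 1 ≤ 2 ^ m - 1 by omega]
  have hOm : Subgroup.center Om = ⊥ := by
    have hq := CfsgLib.Quad.plusQ_nondeg (F := F) m
    have hdim : 5 ≤ Module.finrank F V := by
      rw [Module.finrank_fintype_fun_eq_card, Fintype.card_sum, Fintype.card_fin]; omega
    have h1 := CfsgLib.Quad.card_center_omega_one hq hdim (Or.inl (two_eq_zero h))
    rw [← CfsgLib.Quad.map_center_equiv (CfsgLib.Quad.omegaEquiv (CfsgLib.Quad.plusQ (F := F) m)),
      Nat.card_congr (Subgroup.equivMapOfInjective _ _
        (CfsgLib.Quad.omegaEquiv (CfsgLib.Quad.plusQ (F := F) m)).injective).toEquiv.symm,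
      Subgroup.card_eq_one] at h1
    rw [CfsgLib.Quad.plusQ_coe] at h1
    exact h1
  -- a conjugate not containing the orthogonal group
  obtain ⟨x, hx⟩ : ∃ x : Sp ⧸ H, ¬ j.range ≤ MulAction.stabilizer Sp x := by
    by_contra hcon
    push Not at hcon
    have hN : j.range ≤ H.normalCore := fun g hg y => by
      have h1 := MulAction.mem_stabilizer_iff.1 (hcon ((y⁻¹ : Sp) : Sp ⧸ H) hg)
      change ((g * y⁻¹ : Sp) : Sp ⧸ H) = ((y⁻¹ : Sp) : Sp ⧸ H) at h1
      have h2 := inv_mem (QuotientGroup.eq.1 h1)
      simpa [mul_assoc] using h2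
    haveI : Nonempty (Fin m) := ⟨⟨0, by omega⟩⟩
    haveI hsimp := isSimpleGroup_quot (l := Fin m) (F := F) (Or.inl (by rw [Fintype.card_fin]; omega))
    set π := QuotientGroup.mk' (Subgroup.center Sp)
    haveI : (H.normalCore.map π).Normal :=
      Subgroup.Normal.map inferInstance π (QuotientGroup.mk'_surjective _)
    have hker : π.ker = ⊥ := by rw [QuotientGroup.ker_mk', center_eq_bot h (by omega)]
    rcases (inferInstance : (H.normalCore.map π).Normal).eq_bot_or_eq_top with e | e
    · rw [Subgroup.map_eq_bot_iff, hker] at e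
      have hbot : ∀ g : Om, g = 1 := fun g => hjinj (by
        rw [map_one]; exact Subgroup.mem_bot.1 (e (hN ⟨g, rfl⟩)))
      have htop : K₀ = ⊤ := by
        refine Subgroup.eq_top_iff' _ |>.2 fun y => ?_
        obtain ⟨g, rfl⟩ := QuotientGroup.mk_surjective y
        rw [hbot g]
        exact one_mem _
      rw [htop, Subgroup.index_top] at hK₀
      omega
    · have : H.normalCore = ⊤ := by
        rw [← Subgroup.comap_map_eq_self (H := H.normalCore) (f := π) (by rw [hker]; exact bot_le), e,
          Subgroup.comap_top]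
      exact hH (top_le_iff.1 (this ▸ H.normalCore_le))
  set L := (MulAction.stabilizer Sp x).comap j with hL
  have hLtop : L ≠ ⊤ := fun e => hx (by
    rintro _ ⟨g, rfl⟩
    exact (e ▸ Subgroup.mem_top g : g ∈ L))
  have hidx : L.index ≤ H.index := by
    rw [hL, Subgroup.index_comap]
    refine le_trans (Subgroup.relIndex_le_of_le_right le_top
      (by rw [Subgroup.relIndex_top_right]; exact Subgroup.index_ne_zero_of_finite)) ?_
    rw [Subgroup.relIndex_top_right, MulAction.index_stabilizer_of_transitive, ← Subgroup.index_eq_card]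
  refine le_trans ?_ hidx
  rw [← Subgroup.index_map_eq L (QuotientGroup.mk'_surjective (Subgroup.center Om))
    (by rw [QuotientGroup.ker_mk', hOm]; exact bot_le)]
  refine hlb _ fun e => hLtop ?_
  rw [← Subgroup.comap_map_eq_self (H := L) (f := QuotientGroup.mk' (Subgroup.center Om))
    (by rw [QuotientGroup.ker_mk', hOm]; exact bot_le), e, Subgroup.comap_top]

/-- The quadratic forms polarising to the standard one. -/
def qa (a x : V) : F := Cfsg.quadFormPlus m F x + form a x

theorem card_level_one (h : Fintype.card F = 2) (hm : 1 ≤ m) :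
    Nat.card {a : V // Cfsg.quadFormPlus m F a = 1} = 2 ^ (m - 1) * (2 ^ m - 1) := by
  classical
  have hz := CfsgLib.Quad.zeros_plus (F := F) (Nat.card_eq_fintype_card) m
  have hc : Nat.card {a : V // ¬ Cfsg.quadFormPlus m F a = 0} + Nat.card {a : V // Cfsg.quadFormPlus m F a = 0} =
      2 ^ (2 * m) := by
    rw [add_comm, ← Nat.card_sum, Nat.card_congr (Equiv.sumCompl fun a : V => Cfsg.quadFormPlus m F a = 0),
      Nat.card_eq_fintype_card, Fintype.card_fun, Fintype.card_sum, Fintype.card_fin, h, two_mul]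
  have e : Nat.card {a : V // Cfsg.quadFormPlus m F a = 1} = Nat.card {a : V // ¬ Cfsg.quadFormPlus m F a = 0} :=
    Nat.card_congr (Equiv.subtypeEquivRight fun a =>
      ⟨fun e h0 => zero_ne_one (h0.symm.trans e), fun h0 => (SpMult.cases_of_card_two h _).resolve_left h0⟩)
  rw [h, show Nat.card {v // CfsgLib.Quad.plusQ (F := F) m v = 0} = Nat.card {a : V // Cfsg.quadFormPlus m F a = 0}
    from Nat.card_congr (Equiv.subtypeEquivRight fun v => by rw [CfsgLib.Quad.plusQ_coe])] at hz
  obtain ⟨k, rfl⟩ : ∃ k, m = k + 1 := ⟨m - 1, by omega⟩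
  rw [e, Nat.add_sub_cancel]
  have hc' := congrArg (fun n : ℕ => (n : ℤ)) hc
  have h1 : 1 ≤ 2 ^ (k + 1) := Nat.one_le_two_pow
  zify [h1]
  push_cast at hz hc'
  rw [show 2 * (k + 1) = k + k + 2 by omega] at hz hc'
  simp only [pow_add, pow_succ, pow_zero, one_mul] at hz hc' ⊢
  linarith

/-- The stabiliser of a quadratic form of minus type attains the bound. -/
theorem exists_index (h : Fintype.card F = 2) (hm : 1 ≤ m) :
    ∃ H : Subgroup Sp, H.index = 2 ^ (m - 1) * (2 ^ m - 1) := by
  classical
  haveI : Finite Sp := Subtype.finite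
  letI : MulAction Sp (V → F) := arrowAction
  have hact : ∀ (g : Sp) (f : V → F) (x : V), (g • f) x = f (g⁻¹ • x) := fun g f x => rfl
  have h2 := two_eq_zero h
  have hsq := SpMult.cases_of_card_two h
  have hinj : Function.Injective (qa (F := F) (m := m)) := fun a b e => by
    refine sub_eq_zero.1 (eq_zero_of_form_eq_zero fun u => ?_)
    have := congrFun e u
    simp only [qa, add_right_inj] at this
    rw [form_sub_right, form_swap u a, form_swap u b, this, sub_self]
  have hadd : ∀ x y : V, Cfsg.quadFormPlus m F (x + y) =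
      Cfsg.quadFormPlus m F x + Cfsg.quadFormPlus m F y + form x y := fun x y => by
    rw [form_eq_polar h]; ring
  have hsmul : ∀ (c : F) (x : V), Cfsg.quadFormPlus m F (c • x) = c * c * Cfsg.quadFormPlus m F x := fun c x => by
    simp only [Cfsg.quadFormPlus, Pi.smul_apply, smul_eq_mul, Finset.mul_sum]
    exact Finset.sum_congr rfl fun i _ => by ring
  have htv : ∀ (v : V) (c : F) (a : V),
      tv v c • qa a = qa (a + (c * (Cfsg.quadFormPlus m F v + form a v + 1)) • v) := by
    intro v c a
    funext x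
    rw [hact, tv_inv, tv_smul, qa, qa, hadd, hsmul, form_add_left, form_smul_left, form_add_right, form_smul_right,
      form_smul_right, form_swap v x]
    have hneg : ∀ t : F, -t = t := fun t => by linear_combination -t * h2
    rw [hneg, hneg]
    have hcc : c * c = c := by rcases hsq c with e | e <;> rw [e] <;> ring
    have hff : form x v * form x v = form x v := by rcases hsq (form x v) with e | e <;> rw [e] <;> ring
    linear_combination (form x v * form x v * Cfsg.quadFormPlus m F v) * hcc +
      (c * Cfsg.quadFormPlus m F v + c) * hff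
  set S : Set (V → F) := qa '' {a | Cfsg.quadFormPlus m F a = 1} with hS
  have hstable : ∀ (v : V) (c : F) (f : V → F), f ∈ S → tv v c • f ∈ S := by
    rintro v c _ ⟨a, ha, rfl⟩
    refine ⟨_, ?_, (htv v c a).symm⟩
    change Cfsg.quadFormPlus m F _ = 1
    change Cfsg.quadFormPlus m F a = 1 at ha
    rw [hadd, hsmul, form_smul_right, ha]
    have hidem : ∀ z : F, z * z = z := fun z => by rcases hsq z with e | e <;> rw [e] <;> ring
    linear_combination Cfsg.quadFormPlus m F v * hidem (c * (Cfsg.quadFormPlus m F v + form a v + 1)) +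
      c * hidem (Cfsg.quadFormPlus m F v + form a v) +
      (c * (Cfsg.quadFormPlus m F v + form a v)) * h2
  have hall : ∀ g : Sp, ∀ f ∈ S, g • f ∈ S := by
    intro g
    have hg : g ∈ Subgroup.closure {g : Sp | ∃ w ∈ (⊤ : Submodule F V), ∃ c : F, g = tv w c} := by
      change g ∈ tvGroup (⊤ : Submodule F V)
      rw [tvGroup_eq_top]; trivial
    induction hg using Subgroup.closure_induction with
    | mem g hg => obtain ⟨w, -, c, rfl⟩ := hg; exact hstable w c
    | one => intro f hf; rwa [one_smul]
    | mul x y _ _ hx hy => intro f hf; rw [mul_smul]; exact hx _ (hy f hf)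
    | inv x _ hx =>
      intro f hf
      have hbij : Set.BijOn (fun f => x • f) S S :=
        (Set.toFinite S).injOn_iff_bijOn_of_mapsTo hx |>.1 (MulAction.injective x).injOn
      obtain ⟨f', hf', rfl⟩ := hbij.surjOn hf
      rwa [inv_smul_smul]
  have hpos : 0 < Nat.card {a : V // Cfsg.quadFormPlus m F a = 1} := by
    rw [card_level_one h hm]
    have h1 : 2 ^ 1 ≤ 2 ^ m := Nat.pow_le_pow_right (by norm_num) hm
    have h3 : 0 < 2 ^ (m - 1) := by positivity
    exact Nat.mul_pos h3 (by omega)
  obtain ⟨⟨a₀, ha₀⟩⟩ := (Nat.card_pos_iff.1 hpos).1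
  refine ⟨MulAction.stabilizer Sp (qa a₀), ?_⟩
  have horb : MulAction.orbit Sp (qa a₀) = S := by
    refine Set.Subset.antisymm ?_ ?_
    · rintro _ ⟨g, rfl⟩; exact hall g _ ⟨a₀, ha₀, rfl⟩
    · rintro _ ⟨b, hb, rfl⟩
      refine ⟨tv (a₀ + b) 1, ?_⟩
      change tv (a₀ + b) 1 • qa a₀ = _
      rw [htv]
      congr 1
      change Cfsg.quadFormPlus m F b = 1 at hb
      have hb' : Cfsg.quadFormPlus m F (a₀ + b) + form a₀ (a₀ + b) + 1 = 1 := by
        rw [hadd, form_add_right, form_self, ha₀, hb]
        linear_combination (1 + form a₀ b) * h2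
      rw [hb', one_mul, one_smul, ← add_assoc]
      have hzero : a₀ + a₀ = 0 := funext fun i => by
        simp only [Pi.add_apply, Pi.zero_apply]; linear_combination (a₀ i) * h2
      rw [hzero, zero_add]
  rw [MulAction.index_stabilizer, horb, hS, Set.ncard_image_of_injective _ hinj, ← Nat.card_coe_set_eq]
  exact card_level_one h hm

end CfsgLib.MinIdxSp2
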