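import Cfsg.Agent.MinIdxSp2.SymEight
import Cfsg.Agent.SpSixMult.Weyl

/-!
A proper subgroup of `Sp₆(2)` has index at least twenty-eight.
-/

set_option autoImplicit false
set_option linter.style.haveILetI false

namespace CfsgLib.MinIdxSp2

open scoped commutatorElement
open Equiv CfsgLib.SpPres CfsgLib.SpMult CfsgLib.SpSixMult

universe u

/-- The even set of given coordinates, not containing `0`. -/
def lift8 (x : Fin 6 → ZMod 2) : Fin 8 → ZMod 2 :=
  ![0, x 0 + x 4 + x 5, x 0 + x 3 + x 4 + x 5, x 3 + x 4 + x 5, x 1 + x 4 + x 5, x 1 + x 5, x 2 + x 5, x 2]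

/-- The coordinates of an even set modulo complementation. -/
def proj8 (y : Fin 8 → ZMod 2) : Fin 6 → ZMod 2 :=
  ![y 1 + y 4 + y 5 + y 6 + y 7 + y 0, y 5 + y 6 + y 7 + y 0, y 7 + y 0, y 3 + y 4 + y 5 + y 6 + y 7 + y 0,
    y 4 + y 5, y 6 + y 7]

/-- The action of a permutation on the coordinates. -/
def act8 (σ : Perm (Fin 8)) (x : Fin 6 → ZMod 2) : Fin 6 → ZMod 2 := proj8 (lift8 x ∘ ⇑σ.symm)

theorem proj_lift : ∀ x : Fin 6 → ZMod 2, proj8 (lift8 x) = x := by decide +kernel

theorem lift_proj : ∀ y : Fin 8 → ZMod 2, ∑ i, y i = 0 →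
    lift8 (proj8 y) = y ∨ lift8 (proj8 y) = y + fun _ => 1 := by decide +kernel

theorem lift_even : ∀ x : Fin 6 → ZMod 2, ∑ i, lift8 x i = 0 := by decide +kernel

theorem form_lift : ∀ x x' : Fin 6 → ZMod 2, form2 x x' = ∑ i, lift8 x i * lift8 x' i := by decide +kernel

theorem proj_add : ∀ y y' : Fin 8 → ZMod 2, proj8 (y + y') = proj8 y + proj8 y' := fun y y' => by
  funext i
  fin_cases i <;> simp [proj8] <;> ring

theorem lift_add (x x' : Fin 6 → ZMod 2) : lift8 (x + x') = lift8 x + lift8 x' := by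
  funext i
  fin_cases i <;> simp [lift8] <;> ring

theorem proj_one : proj8 (fun _ => 1) = 0 := by decide

theorem even_comp (σ : Perm (Fin 8)) (x : Fin 6 → ZMod 2) : ∑ i, (lift8 x ∘ ⇑σ.symm) i = 0 := by
  rw [← lift_even x]
  exact Equiv.sum_comp σ.symm (lift8 x)

theorem act8_add (σ : Perm (Fin 8)) (x x' : Fin 6 → ZMod 2) : act8 σ (x + x') = act8 σ x + act8 σ x' := by
  rw [act8, act8, act8, lift_add, ← proj_add]
  rfl

theorem act8_one (x : Fin 6 → ZMod 2) : act8 1 x = x := by
  rw [act8]
  exact proj_lift x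

theorem act8_mul (σ τ : Perm (Fin 8)) (x : Fin 6 → ZMod 2) : act8 (σ * τ) x = act8 σ (act8 τ x) := by
  unfold act8
  rcases lift_proj _ (even_comp τ x) with e | e <;> rw [e]
  · rfl
  · rw [show (lift8 x ∘ ⇑τ.symm + fun _ => 1) ∘ ⇑σ.symm = lift8 x ∘ ⇑(σ * τ).symm + fun _ => 1 from rfl,
      proj_add, proj_one, add_zero]

theorem form_act (σ : Perm (Fin 8)) (x x' : Fin 6 → ZMod 2) : form2 (act8 σ x) (act8 σ x') = form2 x x' := by
  have hev := even_comp σ
  have key : ∀ y y' : Fin 8 → ZMod 2, ∑ i, y i = 0 → ∑ i, y' i = 0 →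
      form2 (proj8 y) (proj8 y') = ∑ i, y i * y' i := by
    intro y y' hy hy'
    rw [form_lift]
    have h1 : ∑ _i : Fin 8, (1 : ZMod 2) = 0 := by decide
    rcases lift_proj y hy with e | e <;> rcases lift_proj y' hy' with e' | e' <;> rw [e, e'] <;>
      simp only [Pi.add_apply, add_mul, mul_add, Finset.sum_add_distrib, mul_one, one_mul, hy, hy', h1, add_zero,
        zero_add]
  rw [act8, act8, key _ _ (hev x) (hev x'), form_lift]
  exact Equiv.sum_comp σ.symm (fun i => lift8 x i * lift8 x' i)

/-- The images of the adjacent transpositions. -/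
def chain : Fin 7 → (Fin 6 → ZMod 2) :=
  ![root 2 + root 4 + root 6, root 0, root 2, root 3, root 4, root 5, root 6]

theorem act_swap : ∀ k : Fin 7, ∀ x : Fin 6 → ZMod 2,
    act8 (Equiv.swap k.castSucc k.succ) x = if form2 (chain k) x = 1 then x + chain k else x := by
  decide +kernel

variable {F : Type u} [Field F] [CharP F 2] (h2 : ∀ x : F, x = 0 ∨ x = 1)

/-- Coordinates over the field of two elements. -/
noncomputable def vecEquiv : (Fin 6 → ZMod 2) ≃+ Vec F 3 :=
  AddEquiv.ofBijective (AddMonoidHom.mk' vec vec_add) ⟨fun a b h => by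
    funext k
    have hinj : Function.Injective (ZMod.castHom (dvd_refl 2) F) := RingHom.injective _
    obtain ⟨x, hx⟩ : ∃ x, coord x = k := by
      fin_cases k
      exacts [⟨Sum.inl 0, rfl⟩, ⟨Sum.inl 1, rfl⟩, ⟨Sum.inl 2, rfl⟩, ⟨Sum.inr 0, rfl⟩, ⟨Sum.inr 1, rfl⟩,
        ⟨Sum.inr 2, rfl⟩]
    have := congrFun h x
    rw [← hx]
    exact hinj this,
    vec_surjective h2⟩

/-- The linear map of a permutation. -/
noncomputable def lin8 (σ : Perm (Fin 8)) : Vec F 3 →ₗ[F] Vec F 3 where
  toFun v := vec (act8 σ ((vecEquiv h2).symm v))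
  map_add' v w := by rw [map_add, act8_add, vec_add]
  map_smul' c v := by
    rcases h2 c with rfl | rfl
    · simp only [zero_smul, map_zero, RingHom.id_apply]
      rw [show act8 σ (0 : Fin 6 → ZMod 2) = 0 by
        have := act8_add σ 0 0
        rw [add_zero] at this
        exact left_eq_add.1 this, vec_zero]
    · simp

theorem lin8_bl (σ : Perm (Fin 8)) (v w : Vec F 3) : bl (lin8 h2 σ v) (lin8 h2 σ w) = bl v w := by
  conv_rhs => rw [← (vecEquiv h2).apply_symm_apply v, ← (vecEquiv h2).apply_symm_apply w]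
  change bl (vec _) (vec _) = bl (vec _) (vec _)
  rw [bl_vec, bl_vec, form_act]

/-- The symmetric group of degree eight inside `Sp₆(2)`. -/
noncomputable def symHom : Perm (Fin 8) →* Spn F 3 where
  toFun σ := ofLin (lin8 h2 σ) (lin8_bl h2 σ)
  map_one' := αSp_injective <| LinearEquiv.ext fun v => by
    rw [αSp_ofLin, map_one]
    change vec (act8 1 ((vecEquiv h2).symm v)) = v
    rw [act8_one]
    exact (vecEquiv h2).apply_symm_apply v
  map_mul' σ τ := αSp_injective <| LinearEquiv.ext fun v => by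
    rw [αSp_mul, αSp_ofLin, αSp_ofLin, αSp_ofLin]
    change vec _ = vec (act8 σ ((vecEquiv h2).symm (vec (act8 τ _))))
    rw [act8_mul]
    congr 2
    exact ((vecEquiv h2).symm_apply_apply _).symm

theorem symHom_swap (k : Fin 7) : symHom h2 (Equiv.swap k.castSucc k.succ) = tr (vec (chain k)) := by
  refine αSp_injective <| LinearEquiv.ext fun v => ?_
  change αSp (ofLin (lin8 h2 _) (lin8_bl h2 _)) v = _
  rw [αSp_ofLin, α_tr]
  conv_rhs => rw [← (vecEquiv h2).apply_symm_apply v]
  change vec (act8 _ _) = vec _ + bl (vec (chain k)) (vec _) • vec (chain k)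
  rw [act_swap, bl_vec]
  rcases (show form2 (chain k) ((vecEquiv h2).symm v) = 0 ∨ form2 (chain k) ((vecEquiv h2).symm v) = 1 from
    (by decide : ∀ z : ZMod 2, z = 0 ∨ z = 1) _) with e | e
  · rw [e, map_zero, zero_smul, add_zero, if_neg (by decide)]
  · rw [e, map_one, one_smul, if_pos rfl, vec_add]

/-- The positions of the simple roots other than the branch. -/
def pos : Fin 7 → Fin 7 := ![1, 0, 2, 3, 4, 5, 6]

theorem gen_eq_symHom {i : Fin 7} (hi : i ≠ 1) :
    (gen i : Spn F 3) = symHom h2 (Equiv.swap (pos i).castSucc (pos i).succ) := by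
  rw [symHom_swap]
  fin_cases i <;> first | exact absurd rfl hi | rfl

/-- Elements commuting with the branch. -/
def commuting : List (Perm (Fin 8)) :=
  [Equiv.swap 0 1 * Equiv.swap 1 2, Equiv.swap 1 2 * Equiv.swap 2 3, Equiv.swap 4 5 * Equiv.swap 5 6,
    Equiv.swap 5 6 * Equiv.swap 6 7, Equiv.swap 0 1 * Equiv.swap 4 5]

/-- Whether a point or nothing is fixed by the five elements. -/
def signature : Option (Fin 8) → Fin 5 → Bool
  | none => ![true, true, true, true, true]
  | some i => ![i.val > 2, i.val = 0 || i.val > 3, i.val < 4 || i.val = 7, i.val < 5, i.val = 2 || i.val = 3 || i.val > 5]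

theorem signature_injective : ∀ o o', signature o = signature o' → o = o' := by decide

theorem signature_spec : ∀ o : Option (Fin 8), ∀ j : Fin 5,
    (o.map (commuting.get (j.cast rfl)) = o ↔ signature o j = true) := by
  unfold commuting
  decide +kernel

theorem separated (o o' : Option (Fin 8)) (h : ∀ σ ∈ commuting, o.map σ = o ↔ o'.map σ = o') : o = o' :=
  signature_injective o o' (funext fun j => Bool.eq_iff_iff.2
    ((signature_spec o j).symm.trans ((h _ (List.get_mem _ _)).trans (signature_spec o' j))))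

theorem commuting_even : ∀ σ ∈ commuting, σ ∈ alternatingGroup (Fin 8) := by
  intro σ hσ
  simp only [commuting, List.mem_cons, List.not_mem_nil, or_false] at hσ
  rw [Equiv.Perm.mem_alternatingGroup]
  rcases hσ with rfl | rfl | rfl | rfl | rfl <;>
    rw [map_mul, Equiv.Perm.sign_swap (by decide), Equiv.Perm.sign_swap (by decide)] <;> rfl

theorem commute_branch {σ : Perm (Fin 8)} (hσ : σ ∈ commuting) :
    Commute (gen 1 : Spn F 3) (symHom h2 σ) := by
  have hk : ∀ k : Fin 7, k ≠ 3 →
      Commute (gen 1 : Spn F 3) (symHom h2 (Equiv.swap k.castSucc k.succ)) := by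
    intro k hk
    rw [symHom_swap, gen]
    refine mul_inv_eq_iff_eq_mul.1 ?_
    rw [tr_conj, α_tr, bl_vec, show form2 (root 1) (chain k) = 0 by revert k; decide, map_zero, zero_smul, add_zero]
  simp only [commuting, List.mem_cons, List.not_mem_nil, or_false] at hσ
  rcases hσ with rfl | rfl | rfl | rfl | rfl <;> rw [map_mul]
  · exact (hk 0 (by decide)).mul_right (hk 1 (by decide))
  · exact (hk 1 (by decide)).mul_right (hk 2 (by decide))
  · exact (hk 4 (by decide)).mul_right (hk 5 (by decide))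
  · exact (hk 5 (by decide)).mul_right (hk 6 (by decide))
  · exact (hk 0 (by decide)).mul_right (hk 4 (by decide))

include h2 in
theorem closure_gen : Subgroup.closure (Set.range (gen : Fin 7 → Spn F 3)) = ⊤ := by
  obtain ⟨φ, hφs, hφ⟩ := exists_phi (F := F) h2
  have hs : Subgroup.closure (Set.range s) = ⊤ :=
    CoxeterMatrix.E₇.toCoxeterSystem.subgroup_closure_range_simple
  have := congrArg (Subgroup.map φ) hs
  rw [MonoidHom.map_closure, Subgroup.map_top_of_surjective φ hφs, ← Set.range_comp] at this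
  refine Eq.trans ?_ this
  exact congrArg Subgroup.closure (congrArg Set.range (funext fun i => (hφ i).symm))

/-- Adjacent simple roots. -/
theorem spread {G : Type*} [Group G] (N : Subgroup G) (g : Fin 7 → G)
    (hconj : ∀ a b, CoxeterMatrix.E₇ a b = 3 → g a ∈ N → g b ∈ N) (h1 : g 1 ∈ N) : ∀ i, g i ∈ N := by
  have h3 := hconj 1 3 (by decide) h1
  have h2 := hconj 3 2 (by decide) h3
  have h4 := hconj 3 4 (by decide) h3
  have h5 := hconj 4 5 (by decide) h4
  intro i
  fin_cases i
  exacts [hconj 2 0 (by decide) h2, h1, h2, h3, h4, h5, hconj 5 6 (by decide) h5]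

variable [Fintype F]

theorem sp6_bound (hcard : Fintype.card F = 2) (H : Subgroup (Spn F 3)) (hH : H ≠ ⊤) : 28 ≤ H.index := by
  classical
  by_contra hlt
  push Not at hlt
  haveI : Finite (Spn F 3) := by
    haveI : Finite (Matrix (Fin 3 ⊕ Fin 3) (Fin 3 ⊕ Fin 3) F) := inferInstance
    exact Subtype.finite
  have h2 := SpMult.cases_of_card_two hcard
  set X := Spn F 3 ⧸ H
  let L : X → Subgroup (Perm (Fin 8)) := fun x => (MulAction.stabilizer (Spn F 3) x).comap (symHom h2)
  have hL : ∀ x, (L x).index ≤ 27 := fun x => by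
    rw [show (L x).index = (MulAction.stabilizer (Spn F 3) x).relIndex (symHom h2).range from
      Subgroup.index_comap _ _]
    refine le_trans (Subgroup.relIndex_le_of_le_right le_top
      (by rw [Subgroup.relIndex_top_right]; exact Subgroup.index_ne_zero_of_finite)) ?_
    rw [Subgroup.relIndex_top_right, MulAction.index_stabilizer_of_transitive, ← Subgroup.index_eq_card]
    omega
  let Good : X → Option (Fin 8) → Prop := fun x o =>
    ∀ σ ∈ alternatingGroup (Fin 8), symHom h2 σ • x = x ↔ o.map σ = o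
  have hex : ∀ x, ∃ o, Good x o := fun x => by
    rcases cases_of_index _ (hL x) with h | ⟨i, hi⟩
    · exact ⟨none, fun σ hσ => iff_of_true (h hσ) rfl⟩
    · exact ⟨some i, fun σ hσ => by
        rw [Option.map_some, Option.some_inj]
        exact hi σ hσ⟩
  choose π hπ using hex
  have huniq : ∀ x o, Good x o → π x = o := fun x o h =>
    separated _ _ fun σ hσ => ((hπ x σ (commuting_even σ hσ)).symm.trans (h σ (commuting_even σ hσ)))
  have hequiv : ∀ (σ : Perm (Fin 8)) x, π (symHom h2 σ • x) = (π x).map σ := by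
    intro σ x
    refine huniq _ _ fun τ hτ => ?_
    have hτ' : σ⁻¹ * τ * σ ∈ alternatingGroup (Fin 8) := by
      simpa using (inferInstance : (alternatingGroup (Fin 8)).Normal).conj_mem τ hτ σ⁻¹
    have h := hπ x _ hτ'
    rw [map_mul, map_mul, map_inv, mul_smul, mul_smul, inv_smul_eq_iff] at h
    rw [h]
    cases π x with
    | none => simp
    | some i =>
      simp only [Option.map_some, Option.some_inj, Equiv.Perm.mul_apply]
      exact ⟨fun e => Equiv.Perm.inv_eq_iff_eq.1 e, fun e => by rw [e]; simp⟩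
  have hbranch : ∀ x, π ((gen 1 : Spn F 3) • x) = π x := fun x => by
    refine separated _ _ fun σ hσ => ?_
    rw [← hπ _ σ (commuting_even σ hσ), ← hπ x σ (commuting_even σ hσ), ← mul_smul,
      ← (commute_branch h2 hσ).eq, mul_smul, smul_left_cancel_iff]
  -- the kernel of `π`
  let K : Subgroup (Spn F 3) :=
    { carrier := {g | ∀ x, π (g • x) = π x}
      one_mem' := fun x => by rw [one_smul]
      mul_mem' := fun {a b} ha hb x => by rw [mul_smul, ha, hb]
      inv_mem' := fun {a} ha x => by rw [← ha (a⁻¹ • x), smul_inv_smul] }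
  have hg1 : gen 1 ∈ K := hbranch
  have hnorm : Subgroup.normalizer (K : Set (Spn F 3)) = ⊤ := by
    rw [eq_top_iff, ← closure_gen h2, Subgroup.closure_le]
    rintro _ ⟨i, rfl⟩
    by_cases hi : i = 1
    · subst hi; exact Subgroup.le_normalizer hg1
    obtain ⟨σ, hσ⟩ : ∃ σ, (gen i : Spn F 3) = symHom h2 σ := ⟨_, gen_eq_symHom h2 hi⟩
    rw [SetLike.mem_coe, Subgroup.mem_normalizer_iff]
    have hback : ∀ (τ : Perm (Fin 8)) g, g ∈ K → symHom h2 τ * g * (symHom h2 τ)⁻¹ ∈ K := by
      intro τ g hg x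
      rw [mul_smul, mul_smul, hequiv, hg, ← hequiv, smul_inv_smul]
    intro g
    rw [hσ]
    refine ⟨hback σ g, fun h => ?_⟩
    have := hback σ⁻¹ _ h
    rw [map_inv, inv_inv] at this
    simpa [mul_assoc] using this
  haveI : K.Normal := Subgroup.normalizer_eq_top_iff.1 hnorm
  have hKgen : ∀ i, gen i ∈ K := spread K gen (fun a b hab ha => by
    have h := (inferInstance : K.Normal).conj_mem _ ha ((gen a : Spn F 3) * gen b)
    have e : (gen a : Spn F 3) * gen b * gen a * (gen a * gen b)⁻¹ = gen b := by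
      rw [gen_braid a b hab]; group
    rwa [e] at h) hg1
  have hKtop : ∀ g, g ∈ K := fun g => by
    have hle : Subgroup.closure (Set.range (gen : Fin 7 → Spn F 3)) ≤ K :=
      (Subgroup.closure_le _).2 (Set.range_subset_iff.2 hKgen)
    rw [closure_gen h2] at hle
    exact hle (Subgroup.mem_top g)
  have hnone : ∀ x, π x = none := fun x => by
    cases hx : π x with
    | none => rfl
    | some i =>
      exfalso
      have h : ∀ σ : Perm (Fin 8), σ i = i := fun σ => by
        have := (hequiv σ x).symm.trans (hKtop _ x)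
        rw [hx, Option.map_some, Option.some_inj] at this
        exact this
      obtain ⟨j, hj⟩ := exists_ne i
      exact hj (by simpa using h (Equiv.swap i j))
  -- the even permutations act trivially
  set N := H.normalCore with hN
  have hAN : ∀ σ ∈ alternatingGroup (Fin 8), symHom h2 σ ∈ N := by
    intro σ hσ g
    have h := (hπ ((g⁻¹ : Spn F 3) : X) σ hσ).2 (by rw [hnone]; rfl)
    change ((symHom h2 σ * g⁻¹ : Spn F 3) : X) = ((g⁻¹ : Spn F 3) : X) at h
    have h' := inv_mem (QuotientGroup.eq.1 h)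
    simpa [mul_assoc] using h'
  set q := QuotientGroup.mk' N
  have hsw : ∀ i : Fin 7, i ≠ 1 → q (gen i) = q (gen 0) := by
    intro i hi
    rw [gen_eq_symHom h2 hi, gen_eq_symHom h2 (i := 0) (by decide)]
    refine QuotientGroup.eq.2 ?_
    rw [← map_inv, ← map_mul]
    refine hAN _ ?_
    revert hi
    revert i
    simp only [Equiv.Perm.mem_alternatingGroup, map_mul, map_inv]
    decide
  have h1 : q (gen 1) = q (gen 0) := by
    have hc : q (gen 1) * q (gen 0) = q (gen 0) * q (gen 1) := by
      rw [← map_mul, ← map_mul, gen_comm 1 0 (by decide)]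
    have hb : q (gen 1) * q (gen 3) * q (gen 1) = q (gen 3) * q (gen 1) * q (gen 3) := by
      rw [← map_mul, ← map_mul, ← map_mul, ← map_mul, gen_braid 1 3 (by decide)]
    rw [hsw 3 (by decide)] at hb
    rw [hc] at hb
    exact mul_left_cancel (hb.trans (by rw [mul_assoc, hc, ← mul_assoc]) |>.trans (mul_assoc _ _ _) |>.symm.trans
      (mul_assoc _ _ _)) |> fun h => (mul_right_cancel h).symm
  have hall : ∀ i, q (gen i) = q (gen 0) := fun i => by
    by_cases hi : i = 1
    · exact hi ▸ h1
    · exact hsw i hi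
  have hle : commutator (Spn F 3) ≤ N := by
    have hrange : (⊤ : Subgroup (Spn F 3)).map q ≤ Subgroup.zpowers (q (gen 0)) := by
      rw [← closure_gen h2, MonoidHom.map_closure, Subgroup.closure_le]
      rintro _ ⟨_, ⟨i, rfl⟩, rfl⟩
      rw [hall i]
      exact Subgroup.mem_zpowers _
    rw [commutator_def, Subgroup.commutator_le]
    intro a _ b _
    refine (QuotientGroup.eq_one_iff _).1 ?_
    obtain ⟨m, hm⟩ := hrange ⟨a, Subgroup.mem_top a, rfl⟩
    obtain ⟨l, hl⟩ := hrange ⟨b, Subgroup.mem_top b, rfl⟩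
    change q ⁅a, b⁆ = 1
    rw [map_commutatorElement, commutatorElement_eq_one_iff_mul_comm, ← hm, ← hl]
    exact (Commute.zpow_zpow_self _ m l).eq
  rw [SpMult.perfect_spn 3 (by norm_num) (Or.inl le_rfl)] at hle
  exact hH (top_le_iff.1 (hle.trans H.normalCore_le))

end CfsgLib.MinIdxSp2
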