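import Cfsg.Agent.S0713
import Cfsg.Agent.FGSB.AltGen
import Mathlib.GroupTheory.Sylow
import Mathlib.GroupTheory.SpecificGroups.Alternating.Simple

/-!
Subgroups of the symmetric group of degree eight of index less than twenty-eight.
-/

set_option autoImplicit false
set_option linter.style.haveILetI false

namespace CfsgLib.MinIdxSp2

open Equiv Equiv.Perm MulAction
open scoped Pointwise

theorem isPreprimitive_of_cycle (L : Subgroup (Perm (Fin 8))) (htr : IsPretransitive L (Fin 8)) {p : ℕ}
    (hp : p.Prime) (h5 : 5 ≤ p) {g : Perm (Fin 8)} (hg : g ∈ L) (hord : orderOf g = p) :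
    IsPreprimitive L (Fin 8) := by
  classical
  haveI := htr
  have hne : ∃ s : Fin 8, g s ≠ s := by
    by_contra h
    push Not at h
    have : g = 1 := Equiv.ext h
    rw [this, orderOf_one] at hord
    omega
  obtain ⟨s, hs⟩ := hne
  constructor
  intro B hB
  by_contra hnt
  rw [IsTrivialBlock, not_or, Set.not_subsingleton_iff] at hnt
  obtain ⟨⟨b, hb, b', hb', hbb⟩, hBu⟩ := hnt
  obtain ⟨l, hl⟩ := MulAction.exists_smul_eq L b s
  set B' := l • B with hB'
  have hblk : IsBlock L B' := hB.translate l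
  have hsB : s ∈ B' := ⟨b, hb, hl⟩
  have h2 : 2 ≤ B'.ncard := by
    rw [hB', Set.ncard_smul_set]
    calc 2 = ({b, b'} : Set (Fin 8)).ncard := (Set.ncard_pair hbb).symm
      _ ≤ B.ncard := Set.ncard_le_ncard (by rintro x (rfl | rfl) <;> assumption)
  have hmul := hblk.ncard_block_mul_ncard_orbit_eq ⟨s, hsB⟩
  rw [Nat.card_eq_fintype_card, Fintype.card_fin] at hmul
  have h4 : (orbit L B').ncard ≤ 4 := by
    by_contra h
    have := Nat.mul_le_mul h2 (show 5 ≤ (orbit L B').ncard by omega)
    omega
  set g' : L := ⟨g, hg⟩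
  have hd : Nat.card (orbit (Subgroup.zpowers g') B') ∣ p := by
    have h := MulAction.index_stabilizer (Subgroup.zpowers g') B'
    rw [← Nat.card_coe_set_eq] at h
    rw [← h]
    have hdd := (stabilizer (Subgroup.zpowers g') B').index_dvd_card
    rw [Nat.card_zpowers, ← Subgroup.orderOf_coe] at hdd
    rwa [show ((g' : L) : Perm (Fin 8)) = g from rfl, hord] at hdd
  have hsub : orbit (Subgroup.zpowers g') B' ⊆ orbit L B' := by
    rintro _ ⟨x, rfl⟩
    exact ⟨x.1, rfl⟩
  have hcard : Nat.card (orbit (Subgroup.zpowers g') B') = 1 := by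
    rcases hp.eq_one_or_self_of_dvd _ hd with h | h
    · exact h
    · rw [Nat.card_coe_set_eq] at h
      have := Set.ncard_le_ncard hsub
      omega
  have hfix : g' • B' = B' := by
    haveI : Subsingleton (orbit (Subgroup.zpowers g') B') := (Nat.card_eq_one_iff_unique.1 hcard).1
    exact congrArg Subtype.val (Subsingleton.elim
      (⟨_, ⟨⟨g', Subgroup.mem_zpowers g'⟩, rfl⟩⟩ : orbit (Subgroup.zpowers g') B') ⟨B', mem_orbit_self _⟩)
  have hc : g.IsCycle := by
    refine isCycle_of_prime_order' (hord ▸ hp) ?_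
    rw [hord, Fintype.card_fin]
    omega
  have hsupp : (g.support : Set (Fin 8)) ⊆ B' := by
    intro x hx
    obtain ⟨i, hi⟩ := hc.exists_pow_eq hs (mem_support.1 hx)
    rw [← hi]
    clear hi
    induction i with
    | zero => simpa using hsB
    | succ i ih =>
      rw [pow_succ', Perm.mul_apply]
      rw [← hfix]
      exact ⟨_, ih, rfl⟩
  have h5' : 5 ≤ B'.ncard := by
    refine le_trans ?_ (Set.ncard_le_ncard hsupp)
    rw [Set.ncard_coe_finset]
    have h := hc.orderOf
    omega
  have h1 : (orbit L B').ncard = 1 := by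
    by_contra h
    have hpos : 0 < (orbit L B').ncard := (Set.ncard_pos).2 ⟨B', mem_orbit_self _⟩
    have := Nat.mul_le_mul h5' (show 2 ≤ (orbit L B').ncard by omega)
    omega
  apply hBu
  have hB8 : B'.ncard = 8 := by rw [h1, mul_one] at hmul; exact hmul
  rw [hB', Set.ncard_smul_set] at hB8
  exact Set.eq_of_subset_of_ncard_le (Set.subset_univ _) (by rw [Set.ncard_univ, hB8]; simp)

theorem mem_of_five {G : Subgroup (Perm (Fin 8))} {L : Subgroup (Perm (Fin 8))} (hr : L.relIndex G ≤ 4)
    (hr0 : L.relIndex G ≠ 0) {g : Perm (Fin 8)} (hg : g ∈ G) (h5 : g ^ 5 = 1) : g ∈ L := by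
  classical
  set K := L.subgroupOf G
  set g' : G := ⟨g, hg⟩
  have hd : (MulAction.stabilizer (Subgroup.zpowers g') ((1 : G) : G ⧸ K)).index ∣ 5 := by
    refine (Subgroup.index_dvd_card _).trans ?_
    rw [Nat.card_zpowers]
    exact orderOf_dvd_of_pow_eq_one (Subtype.ext h5)
  rw [MulAction.index_stabilizer] at hd
  have hle : (orbit (Subgroup.zpowers g') ((1 : G) : G ⧸ K)).ncard ≤ 4 := by
    refine le_trans (Set.ncard_le_ncard (Set.subset_univ _)) ?_
    rw [Set.ncard_univ, ← Subgroup.index_eq_card]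
    exact hr
  have h1 : (orbit (Subgroup.zpowers g') ((1 : G) : G ⧸ K)).ncard = 1 := by
    rcases (Nat.dvd_prime Nat.prime_five).1 hd with h | h <;> omega
  obtain ⟨x, hx⟩ := Set.ncard_eq_one.1 h1
  have e1 : ((1 : G) : G ⧸ K) = x := by
    have := mem_orbit_self (M := Subgroup.zpowers g') ((1 : G) : G ⧸ K); rwa [hx] at this
  have e2 : ((g' * 1 : G) : G ⧸ K) = x := by
    have : (⟨g', Subgroup.mem_zpowers g'⟩ : Subgroup.zpowers g') • ((1 : G) : G ⧸ K) ∈
      orbit (Subgroup.zpowers g') ((1 : G) : G ⧸ K) := ⟨_, rfl⟩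
    rwa [hx] at this
  have h := QuotientGroup.eq.1 (e1.trans e2.symm)
  simpa [K, Subgroup.mem_subgroupOf] using h

/-- A subgroup of small index of a point stabiliser contains its even part. -/
theorem alt_stab_le {L : Subgroup (Perm (Fin 8))} {i : Fin 8} (hr : L.relIndex (stabilizer (Perm (Fin 8)) i) ≤ 3)
    (hr0 : L.relIndex (stabilizer (Perm (Fin 8)) i) ≠ 0) {σ : Perm (Fin 8)} (hσ : σ ∈ alternatingGroup (Fin 8))
    (hi : σ i = i) : σ ∈ L := by
  classical
  have h3 : ∀ a b c : Fin 8, a ≠ i → b ≠ i → c ≠ i → a ≠ b → b ≠ c → a ≠ c →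
      Equiv.swap b c * Equiv.swap a b ∈ L := by
    intro a b c ha hb hc hab hbc hac
    obtain ⟨d, hd⟩ : ∃ d, d ∉ ({i, a, b, c} : Finset (Fin 8)) := by
      by_contra h
      push Not at h
      have := (Finset.card_le_card (fun x _ => h x : (Finset.univ : Finset (Fin 8)) ⊆ {i, a, b, c})).trans
        (Finset.card_le_four (a := i) (b := a) (c := b) (d := c))
      simp at this
    obtain ⟨e, he⟩ : ∃ e, e ∉ ({i, a, b, c, d} : Finset (Fin 8)) := by
      by_contra h
      push Not at h
      have := (Finset.card_le_card (fun x _ => h x : (Finset.univ : Finset (Fin 8)) ⊆ {i, a, b, c, d})).trans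
        Finset.card_le_five
      simp at this
    simp only [Finset.mem_insert, Finset.mem_singleton, not_or] at hd he
    set g := [a, b, c, d, e].formPerm with hg
    have hnd : [a, b, c, d, e].Nodup := by
      simp [List.nodup_cons, hab, hbc, hac, Ne.symm hd.2.1, Ne.symm hd.2.2.1, Ne.symm hd.2.2.2,
        Ne.symm he.2.1, Ne.symm he.2.2.1, Ne.symm he.2.2.2.1, Ne.symm he.2.2.2.2]
    have hg5 : g ^ 5 = 1 := List.formPerm_pow_length_eq_one_of_nodup [a, b, c, d, e] hnd
    have hgi : g ∈ stabilizer (Perm (Fin 8)) i := by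
      rw [mem_stabilizer_iff, Perm.smul_def]
      refine List.formPerm_apply_of_notMem ?_
      simp [Ne.symm ha, Ne.symm hb, Ne.symm hc, Ne.symm hd.1, Ne.symm he.1]
    have hswap : Equiv.swap a b ∈ stabilizer (Perm (Fin 8)) i := by
      rw [mem_stabilizer_iff, Perm.smul_def, Equiv.swap_apply_of_ne_of_ne (Ne.symm ha) (Ne.symm hb)]
    have m1 := mem_of_five (by omega) hr0 hgi hg5
    have m2 := mem_of_five (by omega) hr0 (mul_mem (mul_mem hswap hgi) (inv_mem hswap))
      (by rw [conj_pow, hg5, mul_one, mul_inv_cancel])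
    have key : g * (Equiv.swap a b * g * (Equiv.swap a b)⁻¹)⁻¹ = Equiv.swap b c * Equiv.swap a b := by
      rw [mul_inv_rev, mul_inv_rev, inv_inv, Equiv.swap_inv, ← mul_assoc, ← mul_assoc,
        ← Equiv.swap_apply_apply, List.formPerm_apply_head, show g b = c by
          rw [hg]; exact List.formPerm_apply_lt_getElem _ hnd 1 (by simp)]
      exact hnd
    rw [← key]
    exact mul_mem m1 (inv_mem m2)
  have hmem : σ.subtypePerm (p := fun x => x ≠ i) (fun x => not_congr
      ⟨fun e => σ.injective (e.trans hi.symm), fun e => by rw [e]; exact hi⟩) ∈ alternatingGroup {x : Fin 8 // x ≠ i} := by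
    rw [Perm.mem_alternatingGroup]
    refine (Perm.sign_subtypePerm (p := fun x => x ≠ i) σ _ ?_).trans (Perm.mem_alternatingGroup.1 hσ)
    intro x hx e
    apply hx
    rw [e]; exact hi
  rw [← Perm.closure_three_cycles_eq_alternating] at hmem
  have hle : Subgroup.closure {τ : Perm {x : Fin 8 // x ≠ i} | τ.IsThreeCycle} ≤
      L.comap Perm.ofSubtype := by
    rw [Subgroup.closure_le]
    intro τ hτ
    obtain ⟨a, ha⟩ : τ.support.Nonempty := Finset.card_pos.1 (by rw [hτ.card_support]; omega)
    set b := τ a with hb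
    set c := τ b with hc
    have hab : a ≠ b := fun e => mem_support.1 ha e.symm
    have hbc : b ≠ c := fun e => hab (τ.injective e)
    have h3' : τ c = a := by
      have := congrArg (fun p : Perm _ => p a) (hτ.orderOf ▸ pow_orderOf_eq_one τ)
      simpa [pow_succ, hb, hc] using this
    have hac : a ≠ c := fun e => hab (by rw [hb, e, h3', e])
    have hτe : τ = Equiv.swap a b * Equiv.swap b c := by
      refine Equiv.ext fun x => ?_
      rw [Perm.mul_apply]
      by_cases hxa : x = a
      · subst hxa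
        rw [Equiv.swap_apply_of_ne_of_ne hab hac, Equiv.swap_apply_left]
      by_cases hxb : x = b
      · subst hxb
        rw [Equiv.swap_apply_left, Equiv.swap_apply_of_ne_of_ne (Ne.symm hac) (Ne.symm hbc)]
      by_cases hxc : x = c
      · subst hxc
        rw [Equiv.swap_apply_right, Equiv.swap_apply_right, h3']
      rw [Equiv.swap_apply_of_ne_of_ne hxb hxc, Equiv.swap_apply_of_ne_of_ne hxa hxb]
      by_contra hx
      have hsub : ({a, b, c, x} : Finset _) ⊆ τ.support := by
        intro y hy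
        simp only [Finset.mem_insert, Finset.mem_singleton] at hy
        rw [mem_support]
        rcases hy with rfl | rfl | rfl | rfl
        · exact fun e => hab e.symm
        · exact fun e => hbc e.symm
        · rw [h3']; exact hac
        · exact hx
      have := Finset.card_le_card hsub
      rw [hτ.card_support, Finset.card_eq_of_equiv_fin (n := 4) ?_] at this
      · omega
      · refine Finset.equivFinOfCardEq ?_
        rw [Finset.card_insert_of_notMem, Finset.card_insert_of_notMem, Finset.card_pair (Ne.symm hxc)] <;>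
          simp [hab, hac, Ne.symm hxa, hbc, Ne.symm hxb]
    rw [SetLike.mem_coe, Subgroup.mem_comap, hτe, map_mul]
    have hsw : ∀ x y : {x : Fin 8 // x ≠ i}, Perm.ofSubtype (Equiv.swap x y) = Equiv.swap x.1 y.1 :=
      fun x y => Perm.ofSubtype_swap_eq x y
    rw [hsw, hsw, Equiv.swap_comm a.1 b.1, Equiv.swap_comm b.1 c.1]
    exact h3 c.1 b.1 a.1 c.2 b.2 a.2 (fun e => hbc (Subtype.ext e).symm) (fun e => hab (Subtype.ext e).symm)
      (fun e => hac (Subtype.ext e).symm)
  have h := hle hmem
  rwa [Subgroup.mem_comap, Perm.ofSubtype_subtypePerm] at h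
  exact fun x hx e => hx (e ▸ hi)

theorem exists_mem_of_sylow {p n : ℕ} [Fact p.Prime] (L : Subgroup (Perm (Fin 8))) {g : Perm (Fin 8)}
    (hg : g ^ p = 1) (hfac : (Nat.card (Perm (Fin 8))).factorization p = n) (hd : p ^ n ∣ Nat.card L) :
    ∃ σ : Perm (Fin 8), σ * g * σ⁻¹ ∈ L := by
  obtain ⟨P, hP⟩ := Sylow.exists_subgroup_card_pow_prime p hd
  have hcard : Nat.card (P.map L.subtype) = p ^ n := by
    rw [Nat.card_congr (P.equivMapOfInjective L.subtype L.subtype_injective).toEquiv.symm, hP]
  let S : Sylow p (Perm (Fin 8)) := Sylow.ofCard (P.map L.subtype) (by rw [hcard, hfac])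
  have hp : IsPGroup p (Subgroup.zpowers g) := by
    obtain ⟨j, -, hj⟩ := (Nat.dvd_prime_pow (Fact.out : p.Prime)).1
      (show orderOf g ∣ p ^ 1 by rw [pow_one]; exact orderOf_dvd_of_pow_eq_one hg)
    exact IsPGroup.of_card (n := j) (by rw [Nat.card_zpowers, hj])
  obtain ⟨Q, hQ⟩ := hp.exists_le_sylow
  obtain ⟨σ, hσ⟩ := MulAction.exists_smul_eq (Perm (Fin 8)) Q S
  refine ⟨σ, ?_⟩
  have hmem : σ * g * σ⁻¹ ∈ (σ • Q : Sylow p (Perm (Fin 8))) := ⟨g, hQ (Subgroup.mem_zpowers g), rfl⟩
  rw [hσ] at hmem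
  obtain ⟨x, -, hx⟩ := hmem
  rw [← hx]
  exact x.2

/-- The subgroups of index less than twenty-eight. -/
theorem cases_of_index (L : Subgroup (Perm (Fin 8))) (hL : L.index ≤ 27) :
    alternatingGroup (Fin 8) ≤ L ∨ ∃ i, ∀ σ ∈ alternatingGroup (Fin 8), σ ∈ L ↔ σ i = i := by
  classical
  have hcard : Nat.card (Perm (Fin 8)) = 40320 := by
    rw [Nat.card_perm, Nat.card_eq_fintype_card, Fintype.card_fin]; rfl
  have hmul := L.card_mul_index
  rw [hcard] at hmul
  have hpos : 0 < L.index := Nat.pos_of_ne_zero Subgroup.index_ne_zero_of_finite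
  -- a fixed point
  have hfix : ∀ i : Fin 8, (∀ σ ∈ L, σ i = i) → ∃ i, ∀ σ ∈ alternatingGroup (Fin 8), σ ∈ L ↔ σ i = i := by
    intro i hi
    refine ⟨i, fun σ hσ => ⟨hi σ, fun h => alt_stab_le ?_ ?_ hσ h⟩⟩
    · have hle : L ≤ stabilizer (Perm (Fin 8)) i := fun σ hσ => hi σ hσ
      have h := Subgroup.relIndex_mul_index hle
      rw [index_stabilizer_of_transitive, Nat.card_eq_fintype_card, Fintype.card_fin] at h
      omega
    · exact Subgroup.index_ne_zero_of_finite
  by_cases htr : IsPretransitive L (Fin 8)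
  swap
  · right
    obtain ⟨a, b, hab⟩ : ∃ a b : Fin 8, ∀ σ ∈ L, σ a ≠ b := by
      by_contra h
      push Not at h
      exact htr ⟨fun a b => by obtain ⟨σ, hσ, e⟩ := h a b; exact ⟨⟨σ, hσ⟩, e⟩⟩
    set O := (orbit L a).toFinset with hO
    have hOinv : ∀ σ ∈ L, ∀ x ∈ O, σ x ∈ O := fun σ hσ x hx => by
      rw [hO, Set.mem_toFinset] at hx ⊢
      obtain ⟨τ, rfl⟩ := hx
      exact ⟨⟨σ, hσ⟩ * τ, rfl⟩
    have haO : a ∈ O := by rw [hO, Set.mem_toFinset]; exact mem_orbit_self a
    have hbO : b ∉ O := by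
      rw [hO, Set.mem_toFinset]
      rintro ⟨τ, hτ⟩
      exact hab τ.1 τ.2 hτ
    have h1 : 1 ≤ O.card := Finset.card_pos.2 ⟨a, haO⟩
    have h7 : O.card ≤ 7 := by
      have h := Finset.card_lt_card (Finset.ssubset_univ_iff.2 fun (e : O = Finset.univ) => hbO (by rw [e]; simp))
      simp at h
      omega
    have hchoose : Nat.choose 8 O.card ≤ L.index := by
      have hex : ∀ S : {S : Finset (Fin 8) // S.card = O.card}, ∃ σ : Perm (Fin 8), O.map σ.toEmbedding = S.1 := by
        rintro ⟨S, hS⟩
        let e := Finset.equivOfCardEq hS.symm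
        refine ⟨e.extendSubtype, Finset.eq_of_subset_of_card_le (fun x hx => ?_) (by rw [Finset.card_map, hS])⟩
        obtain ⟨y, hy, rfl⟩ := Finset.mem_map.1 hx
        exact Equiv.extendSubtype_mem e y hy
      choose σ hσ using hex
      have h := Nat.card_le_card_of_injective (fun S => ((σ S : Perm (Fin 8)) : Perm (Fin 8) ⧸ L)) fun S T e => by
        have hm := QuotientGroup.eq.1 e
        apply Subtype.ext
        rw [← hσ S, ← hσ T]
        refine (Finset.eq_of_subset_of_card_le (fun x hx => ?_) (by simp)).symm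
        obtain ⟨y, hy, rfl⟩ := Finset.mem_map.1 hx
        refine Finset.mem_map.2 ⟨((σ S)⁻¹ * σ T) y, hOinv _ hm y hy, ?_⟩
        simp
      rwa [← Subgroup.index_eq_card, Nat.card_eq_fintype_card, Fintype.card_finset_len, Fintype.card_fin] at h
    obtain h | h : O.card = 1 ∨ O.card = 7 := by
      by_contra h
      push Not at h
      have h28 : 28 ≤ Nat.choose 8 O.card := by
        obtain ⟨ne1, ne7⟩ := h
        interval_cases hc : O.card <;> simp_all <;> decide
      omega
    · obtain ⟨x, hx⟩ := Finset.card_eq_one.1 h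
      refine hfix x fun σ hσ => ?_
      have := hOinv σ hσ x (by rw [hx]; simp)
      rwa [hx, Finset.mem_singleton] at this
    · refine hfix b fun σ hσ => ?_
      by_contra hne
      have hb : σ b ∈ O := by
        by_contra hb
        have hcard2 : ({b, σ b} : Finset (Fin 8)) ⊆ Oᶜ := by
          intro y hy
          simp only [Finset.mem_insert, Finset.mem_singleton] at hy
          rcases hy with rfl | rfl <;> simpa
        have := Finset.card_le_card hcard2
        rw [Finset.card_pair (Ne.symm hne), Finset.card_compl, Fintype.card_fin] at this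
        omega
      have := hOinv σ⁻¹ (inv_mem hσ) _ hb
      simp at this
      exact hbO this
  left
  by_contra hA
  haveI : IsSimpleGroup (alternatingGroup (Fin 8)) := alternatingGroup.isSimpleGroup (by simp)
  have h8 : 8 ≤ L.index := by
    by_contra h
    refine hA (Subgroup.subgroupOf_eq_top.1 (CfsgLib.AltGen.eq_top_of_card_gt_factorial _ ?_))
    have hd : (L.subgroupOf (alternatingGroup (Fin 8))).index ≤ L.index := by
      change L.relIndex _ ≤ _
      rw [← Subgroup.relIndex_top_right]
      exact Subgroup.relIndex_le_of_le_right le_top (by rw [Subgroup.relIndex_top_right]; omega)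
    refine lt_of_le_of_lt (Nat.factorial_le (hd.trans (show L.index ≤ 7 by omega))) ?_
    rw [nat_card_alternatingGroup, Nat.card_eq_fintype_card, Fintype.card_fin]
    decide
  by_cases h5 : 5 ∣ L.index
  · obtain ⟨k, hk⟩ := h5
    rw [hk] at hmul h8 hL
    have hk' : k = 2 ∨ k = 3 ∨ k = 4 := by
      have : k ≠ 5 := by rintro rfl; omega
      omega
    have h7 : 7 ∣ Nat.card L := by rcases hk' with rfl | rfl | rfl <;> omega
    haveI : Fact (Nat.Prime 7) := ⟨by norm_num⟩
    obtain ⟨g, hg⟩ := exists_prime_orderOf_dvd_card' 7 h7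
    have hprim := isPreprimitive_of_cycle L htr (p := 7) (by norm_num) (by norm_num) g.2
      (by rw [Subgroup.orderOf_coe, hg])
    rcases hk' with rfl | rfl | rfl
    rotate_left
    · -- index fifteen
      haveI : Fact (Nat.Prime 2) := ⟨Nat.prime_two⟩
      obtain ⟨σ, hσ⟩ := exists_mem_of_sylow (p := 2) (n := 7) L (g := Equiv.swap (0 : Fin 8) 1) (by decide)
        (by rw [hcard]; simp [Nat.factorization_def _ Nat.prime_two]; decide +kernel) (by omega)
      have h := subgroup_eq_top_of_isPreprimitive_of_isSwap_mem hprim _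
        ⟨σ 0, σ 1, by simp, by rw [Equiv.swap_apply_apply]⟩ hσ
      exact hA (h ▸ le_top)
    all_goals
      haveI : Fact (Nat.Prime 3) := ⟨Nat.prime_three⟩
      obtain ⟨σ, hσ⟩ := exists_mem_of_sylow (p := 3) (n := 2) L
        (g := Equiv.swap (0 : Fin 8) 1 * Equiv.swap 0 2) (by decide)
        (by rw [hcard]; simp [Nat.factorization_def _ Nat.prime_three]; decide +kernel) (by omega)
      refine hA (alternatingGroup_le_of_isPreprimitive_of_isThreeCycle_mem hprim ?_ hσ)
      rw [IsThreeCycle, cycleType_conj]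
      exact isThreeCycle_swap_mul_swap_same (by decide) (by decide) (by decide)
  · have h5L : 5 ∣ Nat.card L := by
      rcases (Nat.Prime.dvd_mul (by norm_num : Nat.Prime 5)).1 (show 5 ∣ Nat.card L * L.index by omega) with h | h
      · exact h
      · exact absurd h h5
    haveI : Fact (Nat.Prime 5) := ⟨by norm_num⟩
    obtain ⟨g, hg⟩ := exists_prime_orderOf_dvd_card' 5 h5L
    have hord : orderOf (g : Perm (Fin 8)) = 5 := by rw [Subgroup.orderOf_coe, hg]
    have hc : (g : Perm (Fin 8)).IsCycle := isCycle_of_prime_order' (hord ▸ Nat.prime_five) (by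
      rw [hord, Fintype.card_fin]; norm_num)
    exact hA (Cfsg.Agent.S0713.result L (isPreprimitive_of_cycle L htr Nat.prime_five le_rfl g.2 hord)
      Nat.prime_five (by simp) (by simp) hc (hc.orderOf.symm.trans hord) g.2)

end CfsgLib.MinIdxSp2
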